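import Groth.Prelude.Def_ExtPow2
import Groth.Agent.ExtPowSh.Loc
import Groth.Agent.ExtPowSh.Functor
import Groth.Agent.QuotRep.Frame
import Groth.Agent.QCoh.Support
import Groth.Agent.Lib.TopDiff

/-! Globally generated bundles with trivial determinant are trivial when global functions form a field. -/

set_option autoImplicit false
set_option linter.style.haveILetI false
set_option backward.isDefEq.respectTransparency false
set_option backward.isDefEq.respectTransparency.types false

universe u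

open CategoryTheory CategoryTheory.Limits AlgebraicGeometry TopologicalSpace Opposite

noncomputable section

namespace Groth.Agent.GGTriv

variable {X : Scheme.{u}}

theorem isFinLocFreeOfRank_freeMod (n : ℕ) : FlatMod.IsFinLocFreeOfRank n (FlatMod.freeMod X n) := fun x =>
  ⟨⊤, trivial, ⟨QCoh.freeModRestrict _ n⟩⟩

theorem isQCoh_freeMod (n : ℕ) : Coh.IsQCoh (FlatMod.freeMod X n) :=
  QCoh.isQCoh_of_isFinLocFree fun x =>
    let ⟨U, hx, he⟩ := isFinLocFreeOfRank_freeMod (X := X) n x; ⟨U, n, hx, he⟩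

variable {E : X.Modules} {N : ℕ}

/-- The image of the `i`-th basis vector. -/
def gen (φ : FlatMod.freeMod X N ⟶ E) (i : Fin N) (U : X.Opens) : E.val.obj (op U) :=
  ExtPowSh.appL (Sigma.ι (fun _ : Fin N => Coh.structureModule X) i ≫ φ) U (1 : Γ(X, U))

theorem res_gen (φ : FlatMod.freeMod X N ⟶ E) (i : Fin N) {U V : X.Opens} (h : V ≤ U) :
    E.val.map (homOfLE h).op (gen φ i U) = gen φ i V :=
  (ExtPowSh.map_appL _ h _).trans (congrArg _ (map_one (X.presheaf.map (homOfLE h).op).hom))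

theorem appL_smul_one (f : Coh.structureModule X ⟶ E) (U : X.Opens) (c : Γ(X, U)) :
    ExtPowSh.appL f U (show (Coh.structureModule X).val.obj (op U) from c) =
      c • ExtPowSh.appL f U (show (Coh.structureModule X).val.obj (op U) from (1 : Γ(X, U))) := by
  rw [← map_smul]
  exact congrArg _ (mul_one c).symm

/-- Values of a morphism out of a free module are combinations of the generators. -/
theorem exists_comb (φ : FlatMod.freeMod X N ⟶ E) (U : X.Opens)
    (z : (FlatMod.freeMod X N).val.obj (op U)) :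
    ∃ c : Fin N → Γ(X, U), ExtPowSh.appL φ U z = ∑ i, c i • gen φ i U := by
  classical
  haveI : HasFiniteBiproducts X.Modules := Abelian.hasFiniteBiproducts
  let O := Coh.structureModule X
  let e : FlatMod.freeMod X N ≅ ⨁ fun _ : Fin N => O := (biproduct.isoCoproduct _).symm
  let p : Fin N → (FlatMod.freeMod X N ⟶ O) := fun i => e.hom ≫ biproduct.π (fun _ : Fin N => O) i
  have htot : ∑ i, p i ≫ (Sigma.ι (fun _ : Fin N => O) i ≫ φ) = φ := by
    have h1 : ∀ i, Sigma.ι (fun _ : Fin N => O) i = biproduct.ι (fun _ : Fin N => O) i ≫ e.inv := fun i => by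
      simp [e, O, biproduct.isoCoproduct_hom]
    simp only [p, h1, Category.assoc]
    rw [← Preadditive.comp_sum]
    conv_lhs => arg 2; arg 2; intro i; rw [← Category.assoc]
    rw [← Preadditive.sum_comp, biproduct.total, Category.id_comp, Iso.hom_inv_id_assoc]
  refine ⟨fun i => (show Γ(X, U) from ExtPowSh.appL (p i) U z), ?_⟩
  let A : (FlatMod.freeMod X N ⟶ E) →+ E.val.obj (op U) :=
    AddMonoidHom.mk' (fun f => ExtPowSh.appL f U z) fun _ _ => rfl
  refine (congrArg A htot).symm.trans ((map_sum A _ _).trans ?_)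
  refine Finset.sum_congr rfl fun i _ => ?_
  exact appL_smul_one (Sigma.ι (fun _ : Fin N => O) i ≫ φ) U _

/-- A bundle generated by global sections whose determinant is trivial is trivial, if the
global functions form a field. -/
theorem nonempty_iso_freeMod [Nonempty X] (hfield : IsField Γ(X, ⊤)) {r : ℕ}
    (hE : FlatMod.IsFinLocFreeOfRank r E) (φ : FlatMod.freeMod X N ⟶ E) [Epi φ]
    {L : X.Modules} (hL : ExtPow.IsExtPow r E L) (eL : L ≅ Coh.structureModule X) :
    Nonempty (E ≅ FlatMod.freeMod X r) := by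
  classical
  have hq : Coh.IsQCoh E := QCoh.isQCoh_of_isFinLocFree fun x =>
    let ⟨U, hx, he⟩ := hE x; ⟨U, r, hx, he⟩
  obtain ⟨e₁⟩ := ExtPowSh.nonempty_iso (ExtPowSh.isExtPow E r hq) hL
  let e := e₁ ≪≫ eL
  -- bases on small affine opens
  let B : Set X.Opens := {U | IsAffineOpen U ∧ Nonempty (Module.Basis (Fin r) Γ(X, U) (E.val.obj (op U)))}
  have hB : Opens.IsBasis B := Opens.isBasis_iff_nbhd.2 fun {W} {x} hx => by
    obtain ⟨U₀, hx₀, ⟨e₀⟩⟩ := hE x
    obtain ⟨b₀, hb₀⟩ := TopDiff.exists_bases e₀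
    obtain ⟨_, ⟨U, hU, rfl⟩, hxU, hle⟩ :=
      X.isBasis_affineOpens.exists_subset_of_mem_open (show x ∈ ((W ⊓ U₀ : X.Opens) : Set X) from ⟨hx, hx₀⟩)
        (W ⊓ U₀).2
    have h₁ : U ≤ U₀ := fun _ h => (hle h).2
    obtain ⟨b, -⟩ := TopDiff.basis_of_unique (R := Γ(X, U)) (fun j => AModX.res E h₁ (b₀ j)) (hb₀ U h₁)
    exact ⟨U, ⟨hU, ⟨b⟩⟩, hxU, fun _ h => (hle h).1⟩
  have hgen : ∀ U ∈ B, ∀ y, ∃ c : Fin N → Γ(X, U), y = ∑ i, c i • gen φ i U := fun U hU y => by
    obtain ⟨z, hz⟩ := QCoh.app_surjective_of_epi (isQCoh_freeMod N) hq φ hU.1 y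
    obtain ⟨c, hc⟩ := exists_comb φ U z
    exact ⟨c, hz.symm.trans hc⟩
  let w : ∀ (_ : Fin r → Fin N) (U : X.Opens), ↥(⋀[Γ(X, U)]^r (E.val.obj (op U))) := fun s U =>
    exteriorPower.ιMulti Γ(X, U) r fun j => gen φ (s j) U
  let t : ∀ (_ : Fin r → Fin N) (U : X.Opens), Γ(X, U) := fun s U =>
    ExtPowSh.appL e.hom U (ExtPowSh.toL E r U (w s U))
  have ht : ∀ s (U : X.Opens), X.presheaf.map (homOfLE (le_top (a := U))).op (t s ⊤) = t s U := fun s U => by
    refine (ExtPowSh.map_appL e.hom (le_top (a := U)) _).trans (congrArg (ExtPowSh.appL e.hom U) ?_)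
    rw [ExtPowSh.map_toL]
    refine congrArg _ ((ExtPowSh.map_ιMulti (ExtPowSh.resL E (le_top (a := U))) _).trans ?_)
    exact congrArg _ (funext fun j => res_gen φ (s j) le_top)
  -- one of the constants is a unit
  obtain ⟨s, hs⟩ : ∃ s, t s ⊤ ≠ 0 := by
    by_contra hne
    push_neg at hne
    obtain ⟨x⟩ := ‹Nonempty X›
    obtain ⟨U, hU, hxU, -⟩ := Opens.isBasis_iff_nbhd.1 hB (show x ∈ (⊤ : X.Opens) from trivial)
    obtain ⟨b⟩ := hU.2
    haveI : Nonempty U := ⟨⟨x, hxU⟩⟩
    have hw : ∀ s, w s U = 0 := fun s => by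
      refine (ExtPowSh.toL_bijective E r hq hU.1).1 (Eq.trans ?_ (map_zero (ExtPowSh.toL E r U)).symm)
      have h3 : t s U = 0 := by rw [← ht s U, hne s, map_zero]
      refine (ConcreteCategory.bijective_of_isIso (Scheme.Modules.Hom.app e.hom U)).1 ?_
      exact h3.trans (map_zero (Scheme.Modules.Hom.app e.hom U).hom).symm
    have h1 : b.det (fun j => b j) = 1 := b.det_self
    choose c hc using fun j => hgen U hU (b j)
    have h0 : ∀ v, b.det v = exteriorPower.alternatingMapLinearEquiv b.det (exteriorPower.ιMulti Γ(X, U) r v) :=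
      fun v => (exteriorPower.alternatingMapLinearEquiv_apply_ιMulti _ _).symm
    have h2 : b.det (fun j => ∑ i, c j i • gen φ i U) = 0 := by
      rw [← AlternatingMap.coe_multilinearMap, MultilinearMap.map_sum]
      refine Finset.sum_eq_zero fun σ _ => ?_
      rw [MultilinearMap.map_smul_univ, AlternatingMap.coe_multilinearMap, h0]
      change _ • exteriorPower.alternatingMapLinearEquiv b.det (w σ U) = 0
      rw [hw σ, map_zero, smul_zero]
    rw [show (fun j => b j) = fun j => ∑ i, c j i • gen φ i U from funext hc, h2] at h1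
    exact zero_ne_one h1
  let ψ : FlatMod.freeMod X r ⟶ E :=
    Sigma.desc fun j => Sigma.ι (fun _ : Fin N => Coh.structureModule X) (s j) ≫ φ
  have hψ : ∀ (U : X.Opens) j, gen ψ j U = gen φ (s j) U := fun U j =>
    congrArg (fun f => ExtPowSh.appL f U (show (Coh.structureModule X).val.obj (op U) from (1 : Γ(X, U))))
      (Sigma.ι_desc _ _)
  have hsurj : ∀ U ∈ B, ∀ y, ∃ z, ExtPowSh.appL ψ U z = y := fun U hU y => by
    obtain ⟨b⟩ := hU.2
    have hu : IsUnit (t s U) := by
      rw [← ht s U]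
      exact (show IsUnit (t s ⊤) from let ⟨a, ha⟩ := hfield.mul_inv_cancel hs; IsUnit.of_mul_eq_one a ha).map (X.presheaf.map _).hom
    let m : Γ(X, U) →ₗ[Γ(X, U)] Γ(X, U) := LinearMap.toSpanSingleton _ _ (1 : Γ(X, U))
    let F : ↥(⋀[Γ(X, U)]^r (E.val.obj (op U))) →ₗ[Γ(X, U)] (Coh.structureModule X).val.obj (op U) :=
      (ExtPowSh.appL e.hom U).comp (ExtPowSh.toL E r U)
    have hdet : IsUnit (b.det fun j => gen φ (s j) U) := by
      have hz : w s U = b.det (fun j => gen φ (s j) U) • exteriorPower.ιMulti Γ(X, U) r b := by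
        obtain ⟨a, ha⟩ := (TopDiff.bijective_ιMulti_basis b).2 (w s U)
        rw [← ha]
        congr 1
        have := congrArg (exteriorPower.alternatingMapLinearEquiv b.det) ha
        simpa [w, b.det_self] using this
      have hF : t s U = b.det (fun j => gen φ (s j) U) * (show Γ(X, U) from F (exteriorPower.ιMulti Γ(X, U) r b)) :=
        (congrArg F hz).trans (F.map_smul _ _)
      rw [hF] at hu
      exact isUnit_of_mul_isUnit_left hu
    obtain ⟨hli, hsp⟩ := (b.is_basis_iff_det).2 hdet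
    obtain ⟨c, hc⟩ := (Submodule.mem_span_range_iff_exists_fun Γ(X, U)).1 (hsp.symm ▸ Submodule.mem_top : y ∈ Submodule.span Γ(X, U) (Set.range fun j => gen φ (s j) U))
    refine ⟨∑ j, c j • ExtPowSh.appL (Sigma.ι (fun _ : Fin r => Coh.structureModule X) j) U
      (show (Coh.structureModule X).val.obj (op U) from (1 : Γ(X, U))), ?_⟩
    rw [map_sum, ← hc]
    refine Finset.sum_congr rfl fun j _ => ?_
    rw [map_smul, ← hψ U j]
    rfl
  haveI : Epi ψ := ⟨fun {Z} g h hgh => sub_eq_zero.1 (ExtPowSh.hom_eq_zero_of_isBasis (g - h) hB fun U hU y => by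
    obtain ⟨z, rfl⟩ := hsurj U hU y
    show ExtPowSh.appL g U (ExtPowSh.appL ψ U z) - ExtPowSh.appL h U (ExtPowSh.appL ψ U z) = 0
    exact sub_eq_zero.2 (congrArg (fun f => ExtPowSh.appL f U z) hgh))⟩
  haveI := QuotRep.isIso_of_epi_rank (isFinLocFreeOfRank_freeMod r) hE ψ
  exact ⟨(asIso ψ).symm⟩

end Groth.Agent.GGTriv
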